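import Mathlib
import Cfsg.Agent.Lib.Core.Cores
import Cfsg.Agent.Lib.Components.Radicals
import Cfsg.Agent.Lib.LocalEvenB.BaerSuzuki
import Cfsg.Agent.Lib.Classical.Dickson.Dihedral
import Cfsg.Agent.Lib.Transfer.Fusion
import Cfsg.Agent.Lib.OddLocal.RankTwoAut
import Cfsg.Agent.Lib.Core.UniqueOrderP
import Cfsg.Agent.S0201
import Cfsg.Agent.S0220

/-!
# Self-centralising non-cyclic subgroups: even order, four-groups, involution centralisers

Owner: helper15.
-/

set_option autoImplicit false
set_option linter.all false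

namespace CfsgLib.PLocal.SelfCentNoncyclic

open Subgroup

/-- Every non-cyclic subgroup contains its centraliser. -/
def SCN (G : Type*) [Group G] : Prop :=
  ∀ H : Subgroup G, ¬ IsCyclic H → centralizer (H : Set G) ≤ H

variable {G : Type*} [Group G]

/-- A group with three solutions of `x² = 1` other than the identity is not cyclic. -/
theorem not_isCyclic_of_sq {H : Subgroup G} [Finite G] {a b : G} (ha : a ∈ H) (hb : b ∈ H) (ha2 : a * a = 1)
    (hb2 : b * b = 1) (ha1 : a ≠ 1) (hb1 : b ≠ 1) (hab : a ≠ b) : ¬ IsCyclic H := by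
  classical
  intro hc
  haveI := Fintype.ofFinite H
  have h := IsCyclic.card_pow_eq_one_le (α := H) (n := 2) two_pos
  have hsub : ({1, ⟨a, ha⟩, ⟨b, hb⟩} : Finset H) ⊆ Finset.univ.filter fun x => x ^ 2 = 1 := by
    intro x hx
    simp only [Finset.mem_insert, Finset.mem_singleton] at hx
    simp only [Finset.mem_filter, Finset.mem_univ, true_and]
    rcases hx with rfl | rfl | rfl
    · exact one_pow 2
    · exact Subtype.ext (by simpa [sq] using ha2)
    · exact Subtype.ext (by simpa [sq] using hb2)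
  have hcard : ({1, ⟨a, ha⟩, ⟨b, hb⟩} : Finset H).card = 3 := by
    rw [Finset.card_insert_of_notMem, Finset.card_insert_of_notMem, Finset.card_singleton]
    · simpa [Subtype.ext_iff] using hab
    · simp [Subtype.ext_iff, Ne.symm ha1, Ne.symm hb1]
  have := (Finset.card_le_card hsub).trans h
  omega

theorem mem_center_eq_one [IsSimpleGroup G] (hna : ¬ IsMulCommutative G) : center G = ⊥ := by
  rcases (inferInstance : (center G).Normal).eq_bot_or_eq_top with h | h
  · exact h
  · exact absurd ⟨⟨fun a b => (mem_center_iff.1 (show a ∈ center G by rw [h]; trivial) b).symm⟩⟩ hna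

variable [Finite G] (hP : SCN G)
include hP

/-- The centraliser of a four-group is the four-group. -/
theorem four_eq {v z : G} (hv : orderOf v = 2) (hz : orderOf z = 2) (hvz : v * z = z * v) (hne : v ≠ z)
    {x : G} (hxv : x * v = v * x) (hxz : x * z = z * x) : x = 1 ∨ x = v ∨ x = z ∨ x = v * z := by
  have hv2 : v * v = 1 := by rw [← pow_two, ← hv, pow_orderOf_eq_one]
  have hz2 : z * z = 1 := by rw [← pow_two, ← hz, pow_orderOf_eq_one]
  have hn : ∀ a ∈ zpowers z, v * a * v⁻¹ ∈ zpowers z := by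
    intro a ha
    obtain ⟨k, rfl⟩ := mem_zpowers_iff.1 ha
    rw [((show Commute v z from hvz).zpow_right k).eq, mul_inv_cancel_right]
    exact zpow_mem (mem_zpowers z) k
  set V := CfsgLib.Classical.Dickson.extendInvol (zpowers z) v hv2 hn
  have hzV : z ∈ V := CfsgLib.Classical.Dickson.le_extendInvol (mem_zpowers z)
  have hvV : v ∈ V := CfsgLib.Classical.Dickson.mem_extendInvol_self
  have hv1 : v ≠ 1 := fun e => by rw [e, orderOf_one] at hv; omega
  have hz1 : z ≠ 1 := fun e => by rw [e, orderOf_one] at hz; omega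
  have hmemz : ∀ a ∈ zpowers z, a = 1 ∨ a = z := by
    intro a ha
    obtain ⟨k, rfl⟩ := mem_zpowers_iff.1 ha
    rcases Int.even_or_odd k with ⟨j, hj⟩ | ⟨j, hj⟩
    · exact Or.inl (by rw [hj, ← two_mul, zpow_mul, zpow_two, hz2, one_zpow])
    · exact Or.inr (by rw [hj, zpow_add, zpow_mul, zpow_two, hz2, one_zpow, one_mul, zpow_one])
  have hx : x ∈ V := hP V (not_isCyclic_of_sq hvV hzV hv2 hz2 hv1 hz1 hne) (mem_centralizer_iff.2 fun a ha => by
    rcases ha with ha | ha
    · rcases hmemz _ ha with rfl | rfl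
      · rw [one_mul, mul_one]
      · exact hxz.symm
    · have : a = v * (v * a) := by rw [← mul_assoc, hv2, one_mul]
      rw [this]
      rcases hmemz _ ha with e | e <;> rw [e]
      · rw [mul_one]; exact hxv.symm
      · rw [mul_assoc, ← hxz, ← mul_assoc, ← hxv, mul_assoc])
  rcases hx with hx | hx
  · rcases hmemz _ hx with e | e
    · exact Or.inl e
    · exact Or.inr (Or.inr (Or.inl e))
  · have : x = v * (v * x) := by rw [← mul_assoc, hv2, one_mul]
    rcases hmemz _ hx with e | e
    · exact Or.inr (Or.inl (by rw [this, e, mul_one]))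
    · exact Or.inr (Or.inr (Or.inr (by rw [this, e])))

/-- A simple group with the property has even order. -/
theorem two_dvd [IsSimpleGroup G] (hna : ¬ IsMulCommutative G) : 2 ∣ Nat.card G := by
  classical
  by_contra hodd
  have hcard1 : Nat.card G ≠ 1 := fun h => hna (by
    haveI := (Nat.card_eq_one_iff_unique.1 h).1
    exact ⟨⟨fun a b => Subsingleton.elim _ _⟩⟩)
  set p := (Nat.card G).minFac with hp
  haveI : Fact p.Prime := ⟨Nat.minFac_prime hcard1⟩
  have hp2 : p ≠ 2 := fun h => hodd (h ▸ Nat.minFac_dvd _)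
  obtain ⟨P⟩ : Nonempty (Sylow p G) := inferInstance
  have hrank : ∀ A : Subgroup G, IsMulCommutative A → (∀ a ∈ A, a ^ p = 1) → Nat.card A ≤ p ^ 2 := by
    intro A hA hexp
    by_contra hlt
    push Not at hlt
    have hAp : IsPGroup p A := fun a => ⟨1, Subtype.ext (by simpa using hexp a a.2)⟩
    obtain ⟨E₀, hE₀⟩ := Sylow.exists_subgroup_card_pow_prime_of_le_card Fact.out hAp hlt.le
    set E := E₀.map A.subtype with hE
    have hEA : E ≤ A := map_subtype_le _
    have hEcard : Nat.card E = p ^ 2 := by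
      rw [hE, ← Nat.card_congr (E₀.equivMapOfInjective _ A.subtype_injective).toEquiv, hE₀]
    have hnc : ¬ IsCyclic E := by
      intro hc
      obtain ⟨g, hg⟩ := hc.exists_generator
      have h1 := orderOf_eq_card_of_forall_mem_zpowers hg
      rw [hEcard] at h1
      have h2 : orderOf g ∣ p := orderOf_dvd_of_pow_eq_one (Subtype.ext (by
        simpa using hexp _ (hEA g.2)))
      rw [h1] at h2
      have := Nat.le_of_dvd (Fact.out : p.Prime).pos h2
      have := (Fact.out : p.Prime).two_le
      nlinarith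
    have : A ≤ E := le_trans (fun a ha => mem_centralizer_iff.2 fun b hb =>
      congrArg Subtype.val (hA.is_comm.comm ⟨b, hEA hb⟩ ⟨a, ha⟩)) (hP E hnc)
    have := card_le_of_le this
    omega
  have hnc : ¬ Cfsg.HasNormalPComplement p G := by
    rintro ⟨Q, N, hN, hc⟩
    rcases hN.eq_bot_or_eq_top with e | e <;> subst e
    · rw [isComplement'_bot_left] at hc
      haveI : Group.IsNilpotent G := (IsPGroup.iff_card.2 (by
        obtain ⟨k, hk⟩ := IsPGroup.iff_card.1 Q.isPGroup'
        exact ⟨k, by rw [← hk, hc, card_top]⟩) : IsPGroup p G).isNilpotent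
      haveI : Nontrivial G := IsSimpleGroup.toNontrivial
      exact CfsgLib.Core.inf_center_ne_bot_of_isNilpotent (⊤ : Subgroup G) top_ne_bot
        (by rw [mem_center_eq_one hna, inf_bot_eq])
    · rw [isComplement'_top_left] at hc
      have := Q.card_eq_multiplicity
      rw [hc, card_bot] at this
      have h2 := (Fact.out : p.Prime).factorization_pos_of_dvd (Nat.card_pos).ne' (Nat.minFac_dvd (Nat.card G))
      exact (Nat.one_lt_pow h2.ne' (Fact.out : p.Prime).one_lt).ne this
  refine hnc ((CfsgLib.Transfer.hasNormalPComplement_iff_centralizes P).2 fun Q hQ g hg hcop => ?_)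
  by_contra hgc
  let ψ : normalizer (Q : Set G) →* MulAut Q := Q.normalizerMonoidHom
  set a := ψ ⟨g, hg⟩ with ha
  have ha1 : a ≠ 1 := by
    intro h
    have hk : (⟨g, hg⟩ : normalizer (Q : Set G)) ∈ ψ.ker := h
    rw [Subgroup.normalizerMonoidHom_ker] at hk
    exact hgc (mem_subgroupOf.1 hk)
  have hag : orderOf a ∣ orderOf g := by
    have := orderOf_map_dvd ψ ⟨g, hg⟩
    rwa [Subgroup.orderOf_mk] at this
  have hord : orderOf a ≠ 1 := fun h => ha1 (orderOf_eq_one_iff.1 h)
  obtain ⟨q, hq, hqd⟩ := Nat.exists_prime_and_dvd hord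
  haveI := Fact.mk hq
  set b := a ^ (orderOf a / q) with hb
  have hbo : orderOf b = q := by
    rw [hb, orderOf_pow_of_dvd ((Nat.div_pos (Nat.le_of_dvd (orderOf_pos a) hqd) hq.pos).ne')
      (Nat.div_dvd_of_dvd hqd), Nat.div_div_self hqd (orderOf_pos a).ne']
  have hqG : q ∣ Nat.card G := (hqd.trans hag).trans (orderOf_dvd_natCard g)
  have hqp : q ≠ p := fun h => (Fact.out : p.Prime).ne_one
    (Nat.eq_one_of_dvd_coprimes hcop (h ▸ hqd.trans hag) dvd_rfl)
  have hQp : IsPGroup p Q := P.2.to_le hQ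
  have hr : Cfsg.PRankLE p 2 Q := by
    intro A hA hexp
    rw [Nat.card_congr (A.equivMapOfInjective _ Q.subtype_injective).toEquiv]
    refine hrank _ inferInstance ?_
    rintro _ ⟨x, hx, rfl⟩
    rw [← map_pow, hexp x hx, map_one]
  have hodd' : Odd (Nat.card (zpowers b)) := by
    rw [Nat.card_zpowers, hbo]
    exact hq.odd_of_ne_two fun h => hodd (h ▸ hqG)
  haveI : Group.IsSolvable (zpowers b) := inferInstance
  have hψ : ∀ c : zpowers b, (zpowers b).subtype c = 1 → (orderOf c).Coprime p → c = 1 :=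
    fun c hc _ => Subtype.ext hc
  have h := (CfsgLib.OddLocal.RankTwoAut.rankTwo_aut hodd' hp2 hQp hr (zpowers b).subtype hψ).2
    ⟨b, mem_zpowers b⟩ (by rw [Subgroup.orderOf_mk, hbo]; exact hq) (by rw [Subgroup.orderOf_mk, hbo]; exact hqp)
  rw [Subgroup.orderOf_mk, hbo] at h
  exact absurd (Nat.minFac_le_of_dvd hq.two_le hqG) (by omega)

/-- A Sylow 2-subgroup has a central involution and another involution. -/
theorem exists_four [IsSimpleGroup G] (hna : ¬ IsMulCommutative G) (S : Sylow 2 G) :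
    ∃ z v : G, orderOf z = 2 ∧ orderOf v = 2 ∧ v ≠ z ∧ z ∈ (S : Subgroup G) ∧ v ∈ (S : Subgroup G) ∧
      ∀ s ∈ (S : Subgroup G), s * z = z * s := by
  classical
  haveI : Fact (Nat.Prime 2) := ⟨Nat.prime_two⟩
  have h2 := two_dvd hP hna
  haveI : Nontrivial (S : Subgroup G) := by
    rw [nontrivial_iff_ne_bot]
    intro e
    have := S.not_dvd_index
    rw [e, index_bot] at this
    exact this h2
  haveI := S.isPGroup'.center_nontrivial
  obtain ⟨z₀, hz₀⟩ := exists_prime_orderOf_dvd_card' (G := center (S : Subgroup G)) 2 (by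
    obtain ⟨k, hk⟩ := IsPGroup.iff_card.1 (S.isPGroup'.to_subgroup (center (S : Subgroup G)))
    rw [hk]
    refine dvd_pow_self 2 fun h => ?_
    rw [h, pow_zero] at hk
    exact (Finite.one_lt_card (α := center (S : Subgroup G))).ne' hk)
  have hz : orderOf ((z₀ : (S : Subgroup G)) : G) = 2 := by rw [orderOf_coe, orderOf_coe, hz₀]
  refine ⟨((z₀ : (S : Subgroup G)) : G), ?_⟩
  suffices h : ∃ v : G, orderOf v = 2 ∧ v ≠ ((z₀ : (S : Subgroup G)) : G) ∧ v ∈ (S : Subgroup G) by
    obtain ⟨v, hv, hne, hvS⟩ := h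
    exact ⟨v, hz, hv, hne, (z₀ : (S : Subgroup G)).2, hvS, fun s hs =>
      congrArg Subtype.val (mem_center_iff.1 z₀.2 ⟨s, hs⟩)⟩
  by_contra hno
  push Not at hno
  have huniq : ∀ H K : Subgroup (S : Subgroup G), Nat.card H = 2 → Nat.card K = 2 → H = K := by
    have key : ∀ H : Subgroup (S : Subgroup G), Nat.card H = 2 → H = zpowers (z₀ : (S : Subgroup G)) := by
      intro H hH
      obtain ⟨h, hh⟩ := exists_prime_orderOf_dvd_card' (G := H) 2 (hH.symm ▸ dvd_rfl)
      have he : ((h : (S : Subgroup G)) : G) = ((z₀ : (S : Subgroup G)) : G) := by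
        by_contra hne
        exact hno _ (by rw [orderOf_coe, orderOf_coe, hh]) hne (h : (S : Subgroup G)).2
      refine (eq_of_le_of_card_ge (zpowers_le.2 ?_) ?_).symm
      · rw [← Subtype.ext he]; exact h.2
      · rw [Nat.card_zpowers, orderOf_coe, hz₀, hH]
    intro H K hH hK
    rw [key H hH, key K hK]
  have hcyc : ¬ IsCyclic (S : Subgroup G) := by
    intro hc
    obtain ⟨R⟩ : Nonempty (Sylow 2 (centralizer ({((z₀ : (S : Subgroup G)) : G)} : Set G))) := inferInstance
    obtain ⟨T, hT⟩ := (R.isPGroup'.map (centralizer ({((z₀ : (S : Subgroup G)) : G)} : Set G)).subtype).exists_le_sylow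
    obtain ⟨g, hg⟩ := MulAction.exists_smul_eq G S T
    haveI hTc : IsCyclic (T : Subgroup G) := by
      rw [← hg]
      exact ((Sylow.equiv S (g • S))).isCyclic.1 hc
    have hRc : IsCyclic (R : Subgroup (centralizer ({((z₀ : (S : Subgroup G)) : G)} : Set G))) := by
      haveI : IsCyclic ((R : Subgroup (centralizer ({((z₀ : (S : Subgroup G)) : G)} : Set G))).map
          (centralizer ({((z₀ : (S : Subgroup G)) : G)} : Set G)).subtype) := isCyclic_of_le hT
      exact ((R : Subgroup (centralizer ({((z₀ : (S : Subgroup G)) : G)} : Set G))).equivMapOfInjective _ (Subgroup.subtype_injective _)).isCyclic.2 inferInstance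
    obtain ⟨H, hH⟩ := Cfsg.Agent.S0220.result _ hz R hRc
    rcases (Subgroup.normal_of_index_eq_two hH).eq_bot_or_eq_top with e | e
    · rw [e, index_bot] at hH
      haveI := isCyclic_of_prime_card hH
      letI := IsCyclic.commGroup (α := G)
      exact hna ⟨⟨mul_comm⟩⟩
    · rw [e, index_top] at hH; omega
  rcases CfsgLib.Core.UniqueOrderP.isCyclic_or_quaternion_of_unique S.isPGroup' huniq with h | ⟨-, n, ⟨e⟩⟩
  · exact hcyc h
  · rcases n with _ | n
    · exact hcyc (e.isCyclic.2 QuaternionGroup.quaternionGroup_one_isCyclic)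
    · have hO : ∀ N : Subgroup G, N.Normal → Odd (Nat.card N) → N = ⊥ := fun N hN hodd => by
        rcases hN.eq_bot_or_eq_top with h | h
        · exact h
        · rw [h, card_top] at hodd
          exact absurd h2 hodd.not_two_dvd_nat
      have := Cfsg.Agent.S0201.result S n e hO
      rw [mem_center_eq_one hna, card_bot] at this
      omega

/-- With an involution count that is a power of two, the centraliser of `z` is a 2-group. -/
theorem odd_eq_one {S : Sylow 2 G} {z v₀ : G} (hz : orderOf z = 2) (hzS : z ∈ (S : Subgroup G))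
    (hzc : ∀ s ∈ (S : Subgroup G), s * z = z * s) {k : ℕ}
    (hcard : Nat.card {v : G // v ∈ (S : Subgroup G) ∧ orderOf v = 2 ∧ v ≠ z} = 2 ^ k) :
    ∀ x : G, x * z = z * x → Odd (orderOf x) → x = 1 := by
  classical
  haveI : Fact (Nat.Prime 2) := ⟨Nat.prime_two⟩
  set C := centralizer ({z} : Set G) with hC
  have hz1 : z ≠ 1 := fun e => by rw [e, orderOf_one] at hz; omega
  have hSC : (S : Subgroup G) ≤ C := fun s hs => mem_centralizer_singleton_iff.2 (hzc s hs)
  -- noncentral involutions of `C` lie in its 2-core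
  have hcore : ∀ v : C, orderOf v = 2 → (v : G) ≠ z → v ∈ Cfsg.pCore 2 C := by
    intro v hv hvz
    by_contra hO
    obtain ⟨y, hy1, hyodd, hvy⟩ := CfsgLib.LocalEvenB.exists_odd_inverted
      (by rw [← pow_two, ← hv, pow_orderOf_eq_one]) hO
    have hv' : orderOf (v : G) = 2 := by rw [orderOf_coe, hv]
    have hv2 : (v : G) * v = 1 := by rw [← pow_two, ← hv', pow_orderOf_eq_one]
    have hvy' : (v : G) * y * (v : G)⁻¹ = (y : G)⁻¹ := congrArg Subtype.val hvy
    have hn : ∀ a ∈ zpowers (y : G), (v : G) * a * (v : G)⁻¹ ∈ zpowers (y : G) := by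
      intro a ha
      obtain ⟨i, rfl⟩ := mem_zpowers_iff.1 ha
      rw [← conj_zpow, hvy']
      exact zpow_mem (inv_mem (mem_zpowers _)) i
    set H := CfsgLib.Classical.Dickson.extendInvol (zpowers (y : G)) (v : G) hv2 hn with hH
    have hvH : (v : G) ∈ H := CfsgLib.Classical.Dickson.mem_extendInvol_self
    have hyH : (y : G) ∈ H := CfsgLib.Classical.Dickson.le_extendInvol (mem_zpowers _)
    have hyo : Odd (orderOf (y : G)) := by rwa [orderOf_coe]
    have hnc : ¬ IsCyclic H := by
      intro hc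
      letI := IsCyclic.commGroup (α := H)
      have e : (v : G) * y = y * v := congrArg Subtype.val (mul_comm (⟨_, hvH⟩ : H) ⟨_, hyH⟩)
      rw [e, mul_inv_cancel_right] at hvy'
      have h2 : orderOf (y : G) ∣ 2 := orderOf_dvd_of_pow_eq_one (by
        rw [pow_two]; nth_rewrite 2 [hvy']; exact mul_inv_cancel _)
      rcases (Nat.dvd_prime Nat.prime_two).1 h2 with h | h
      · exact hy1 (Subtype.ext (orderOf_eq_one_iff.1 h))
      · rw [h] at hyo; exact absurd hyo (by decide)
    have hzH : z ∈ centralizer (H : Set G) := mem_centralizer_iff.2 fun a ha => by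
      have hca : ∀ a ∈ zpowers (y : G), a ∈ C := fun a ha => (zpowers_le.2 y.2) ha
      rcases ha with ha | ha
      · exact mem_centralizer_singleton_iff.1 (hca _ ha)
      · have : a = (v : G) * ((v : G) * a) := by rw [← mul_assoc, hv2, one_mul]
        rw [this]
        exact mem_centralizer_singleton_iff.1 (mul_mem v.2 (hca _ ha))
    have hzy : z ∉ zpowers (y : G) := fun h => by
      have := (zpowers (y : G)).orderOf_dvd_natCard h
      rw [Nat.card_zpowers, hz] at this
      exact hyo.not_two_dvd_nat this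
    rcases hP H hnc hzH with h | h
    · exact hzy h
    · have hd := (zpowers (y : G)).orderOf_dvd_natCard h
      rw [Nat.card_zpowers] at hd
      have hne : (v : G) * z ≠ 1 := fun e => hvz (by
        rw [mul_eq_one_iff_eq_inv] at e
        rw [e, inv_eq_of_mul_eq_one_right (by rw [← pow_two, ← hz, pow_orderOf_eq_one])])
      have hvz2 : ((v : G) * z) ^ 2 = 1 := by
        rw [(show Commute (v : G) z from mem_centralizer_singleton_iff.1 v.2).mul_pow, pow_two (v : G), hv2,
          one_mul, ← hz, pow_orderOf_eq_one]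
      have : orderOf ((v : G) * z) = 2 := orderOf_eq_prime hvz2 hne
      rw [this] at hd
      exact hyo.not_two_dvd_nat hd
  -- the 2-core lies in `S`
  haveI := CfsgLib.Components.pCore_normal (G := C) 2
  have hRS : (Cfsg.pCore 2 C).map C.subtype ≤ (S : Subgroup G) := by
    have h := IsPGroup.le_sylow_of_normal (CfsgLib.Components.pCore_isPGroup (G := C) 2) (S.subtype hSC)
    rintro _ ⟨r, hr, rfl⟩
    exact h hr
  intro x hxz hxodd
  by_contra hx1
  have hord : orderOf x ≠ 1 := fun h => hx1 (orderOf_eq_one_iff.1 h)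
  obtain ⟨l, hl, hld⟩ := Nat.exists_prime_and_dvd hord
  haveI := Fact.mk hl
  set δ := x ^ (orderOf x / l) with hδ
  have hδo : orderOf δ = l := by
    rw [hδ, orderOf_pow_of_dvd ((Nat.div_pos (Nat.le_of_dvd (orderOf_pos x) hld) hl.pos).ne')
      (Nat.div_dvd_of_dvd hld), Nat.div_div_self hld (orderOf_pos x).ne']
  have hδz : δ * z = z * δ := ((show Commute x z from hxz).pow_left _).eq
  have hl2 : l ≠ 2 := fun h => hxodd.not_two_dvd_nat (h ▸ hld)
  let Ω := {v : G // v ∈ (S : Subgroup G) ∧ orderOf v = 2 ∧ v ≠ z}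
  have hstep : ∀ v : Ω, δ * v.1 * δ⁻¹ ∈ (S : Subgroup G) ∧ orderOf (δ * v.1 * δ⁻¹) = 2 ∧ δ * v.1 * δ⁻¹ ≠ z := by
    rintro ⟨v, hvS, hv, hvz⟩
    have ho : orderOf (δ * v * δ⁻¹) = 2 :=
      (orderOf_injective (MulAut.conj δ).toMonoidHom (MulAut.conj δ).injective v).trans hv
    have hne : δ * v * δ⁻¹ ≠ z := fun e => hvz (mul_left_cancel (mul_right_cancel (e.trans (by
      rw [hδz, mul_inv_cancel_right]))))
    have hmem : δ * v * δ⁻¹ ∈ C := mul_mem (mul_mem (mem_centralizer_singleton_iff.2 hδz) (hSC hvS))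
      (inv_mem (mem_centralizer_singleton_iff.2 hδz))
    exact ⟨hRS ⟨⟨_, hmem⟩, hcore _ (by rw [Subgroup.orderOf_mk, ho]) hne, rfl⟩, ho, hne⟩
  let T : Ω → Ω := fun v => ⟨δ * v.1 * δ⁻¹, hstep v⟩
  have hT : Function.Injective T := fun u v h => Subtype.ext
    (mul_left_cancel (mul_right_cancel (congrArg Subtype.val h)))
  let P : Equiv.Perm Ω := Equiv.ofBijective T (Finite.injective_iff_bijective.1 hT)
  have hPk : ∀ (j : ℕ) v, ((P ^ j) v : Ω).1 = δ ^ j * v.1 * (δ ^ j)⁻¹ := by
    intro j
    induction j with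
    | zero => intro v; simp
    | succ j ih =>
      intro v
      rw [pow_succ', Equiv.Perm.mul_apply]
      show δ * ((P ^ j) v : Ω).1 * δ⁻¹ = _
      rw [ih]; group
  have hP1 : P ^ l ^ 1 = 1 := Equiv.ext fun v => Subtype.ext (by
    rw [hPk, pow_one, ← hδo, pow_orderOf_eq_one, inv_one, one_mul, mul_one]; rfl)
  haveI := Fintype.ofFinite Ω
  obtain ⟨⟨v, hvS, hv, hvz⟩, hfix⟩ := Equiv.Perm.exists_fixed_point_of_prime (n := 1) (α := Ω) (p := l)
    (by rw [← Nat.card_eq_fintype_card, hcard]; exact fun h => hl2 ((Nat.prime_dvd_prime_iff_eq hl Nat.prime_two).1 (hl.dvd_of_dvd_pow h))) hP1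
  have hfix' : δ * v * δ⁻¹ = v := congrArg Subtype.val hfix
  rw [mul_inv_eq_iff_eq_mul] at hfix'
  have hvz2 : v * z = z * v := hzc v hvS
  rcases four_eq hP hv hz hvz2 hvz hfix' hδz with e | e | e | e
  · exact hl.ne_one (by rw [← hδo, e, orderOf_one])
  · exact hl2 (by rw [← hδo, e, hv])
  · exact hl2 (by rw [← hδo, e, hz])
  · have hpow : (v * z) ^ 2 = 1 := by
      rw [(show Commute v z from hvz2).mul_pow]
      nth_rewrite 1 [← hv]
      rw [pow_orderOf_eq_one, one_mul, ← hz, pow_orderOf_eq_one]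
    have := orderOf_dvd_of_pow_eq_one hpow
    rw [← e, hδo] at this
    exact hl2 ((Nat.prime_dvd_prime_iff_eq hl Nat.prime_two).1 this)

end CfsgLib.PLocal.SelfCentNoncyclic
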