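import Mathlib
import Cfsg.Agent.Lib.PLocal.SelfCentNoncyclic.Basic
import Cfsg.Agent.Lib.Classical.Dickson.Dihedral
import Cfsg.Agent.Lib.PLocal.CAGroup.Complement
import Cfsg.Agent.Lib.TwoGroups.ZModTwoPow

/-!
# `PSL(2, q)` with `q = 4, 9` or a Fermat or Mersenne prime

Their non-cyclic subgroups contain their centralisers. Also the arithmetic of `p ^ f = 2 ^ k ± 1`.

Owner: helper15.
-/

set_option autoImplicit false
set_option linter.all false

namespace CfsgLib.PLocal.SelfCentNoncyclic

open Subgroup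
open scoped MatrixGroups

/-- An odd prime power next to a power of two is `9` or a prime. -/
theorem prime_pow_near_two_pow {p f k : ℕ} (hp : p.Prime) (hp2 : p ≠ 2) (hf : 1 ≤ f)
    (h : p ^ f = 2 ^ k + 1 ∨ p ^ f + 1 = 2 ^ k) : p ^ f = 9 ∨ f = 1 := by
  have hp3 : 3 ≤ p := by have := hp.two_le; omega
  have hodd : Odd p := hp.odd_of_ne_two hp2
  rcases Nat.even_or_odd f with ⟨g, rfl⟩ | hfo
  · -- a square
    left
    have hg : 1 ≤ g := by omega
    obtain ⟨m, hm⟩ : ∃ m, m = p ^ g := ⟨_, rfl⟩
    have hmo : Odd m := hm ▸ hodd.pow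
    have hm3 : 3 ≤ m := hm ▸ le_trans hp3 (Nat.le_self_pow (by omega) p)
    rw [pow_add, ← hm] at h ⊢
    rcases h with h | h
    · obtain ⟨u, rfl⟩ : ∃ u, m = u + 1 := ⟨m - 1, by omega⟩
      have hmul : u * (u + 2) = 2 ^ k := by nlinarith
      obtain ⟨a, -, ha⟩ := (Nat.dvd_prime_pow Nat.prime_two).1 (Dvd.intro _ hmul)
      obtain ⟨b, -, hb⟩ := (Nat.dvd_prime_pow Nat.prime_two).1 (Dvd.intro_left _ hmul)
      rcases a with _ | _ | a
      · omega
      · rw [ha] at *; norm_num
      · exfalso
        rcases b with _ | _ | b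
        · omega
        · omega
        · rw [pow_succ, pow_succ] at ha hb
          omega
    · exfalso
      obtain ⟨u, rfl⟩ := hmo
      rcases k with _ | _ | k
      · rw [pow_zero] at h; nlinarith
      · rw [pow_one] at h; nlinarith
      · have h4 : (2 * u + 1) * (2 * u + 1) + 1 = 4 * (u * u + u) + 2 := by ring
        rw [h4, pow_succ, pow_succ] at h
        omega
  · right
    -- the alternating or plain geometric sum is odd
    have key : ∀ x : ℤ, Odd x → (x ^ f - 1).natAbs ∣ 2 ^ k → (x ^ f - 1).natAbs = (x - 1).natAbs := by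
      intro x hx hdvd
      have hsum := geom_sum_mul x f
      set S' := ∑ i ∈ Finset.range f, x ^ i
      have hSodd : Odd S' := by
        rw [Int.odd_iff, ← Int.emod_emod_of_dvd _ (dvd_refl 2)]
        have hcast : ((S' : ℤ) : ZMod 2) = 1 := by
          have hx1 : (x : ZMod 2) = 1 := by
            obtain ⟨y, rfl⟩ := hx
            push_cast
            rw [show (2 : ZMod 2) = 0 from rfl, zero_mul, zero_add]
          simp only [S', Int.cast_sum, Int.cast_pow, hx1, one_pow, Finset.sum_const, Finset.card_range,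
            nsmul_eq_mul, mul_one]
          obtain ⟨y, rfl⟩ := hfo
          push_cast
          rw [show (2 : ZMod 2) = 0 from rfl, zero_mul, zero_add]
        have hi : ((S' : ℤ) : ZMod 2) = ((1 : ℤ) : ZMod 2) := by rw [hcast]; norm_num
        rw [ZMod.intCast_eq_intCast_iff'] at hi
        push_cast at hi
        omega
      rw [← hsum, Int.natAbs_mul] at hdvd ⊢
      obtain ⟨a, -, ha⟩ := (Nat.dvd_prime_pow Nat.prime_two).1 ((dvd_mul_right _ _).trans hdvd)
      rcases a with _ | a
      · rw [ha, pow_zero, one_mul]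
      · exfalso
        have h2 : Odd S'.natAbs := Int.natAbs_odd.2 hSodd
        rw [ha, pow_succ] at h2
        exact Nat.not_even_iff_odd.2 h2 ⟨2 ^ a, by ring⟩
    have hpow : ∀ a : ℕ, p ^ a = p → a = 1 := fun a ha =>
      Nat.pow_right_injective hp.two_le (ha.trans (pow_one p).symm)
    rcases h with h | h
    · have e := key (p : ℤ) (by exact_mod_cast hodd) (by
        have : ((p : ℤ) ^ f - 1) = ((2 ^ k : ℕ) : ℤ) := by rw [← Nat.cast_pow, h]; push_cast; ring
        rw [this, Int.natAbs_natCast])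
      refine hpow f ?_
      have h1 : ((p : ℤ) ^ f - 1) = ((p ^ f - 1 : ℕ) : ℤ) := by
        rw [Nat.cast_sub (Nat.one_le_pow _ _ hp.pos)]; push_cast; ring
      have h2 : ((p : ℤ) - 1) = ((p - 1 : ℕ) : ℤ) := by rw [Nat.cast_sub hp.one_le]; norm_num
      rw [h1, h2, Int.natAbs_natCast, Int.natAbs_natCast] at e
      have := Nat.one_le_pow f p hp.pos
      omega
    · have h1 : (-(p : ℤ)) ^ f - 1 = -((p ^ f + 1 : ℕ) : ℤ) := by
        rw [hfo.neg_pow]; push_cast; ring
      have h2 : (-(p : ℤ)) - 1 = -((p + 1 : ℕ) : ℤ) := by push_cast; ring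
      have e := key (-(p : ℤ)) (by exact_mod_cast hodd.natCast.neg) (by rw [h1, Int.natAbs_neg, Int.natAbs_natCast, h])
      rw [h1, h2, Int.natAbs_neg, Int.natAbs_neg, Int.natAbs_natCast, Int.natAbs_natCast] at e
      exact hpow f (by omega)

variable {G : Type*} [Group G] [Finite G]

/-- A criterion. -/
theorem scn_of_local (hz2 : ∀ z : G, orderOf z = 2 → IsPGroup 2 (centralizer ({z} : Set G)))
    (hloc : ∀ P : Sylow 2 G, ∀ H : Subgroup G, H ≤ (P : Subgroup G) → ¬ IsCyclic H →
      ∀ x ∈ (P : Subgroup G), x ∈ centralizer (H : Set G) → x ∈ H)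
    (hodd : ∀ c : G, c ≠ 1 → Odd (orderOf c) →
      IsCyclic (centralizer ({c} : Set G)) ∨ ∃ l : ℕ, l.Prime ∧ Nat.card (centralizer ({c} : Set G)) ∣ l ^ 2) :
    SCN G := by
  intro H hH c hc
  by_cases hc1 : c = 1
  · rw [hc1]; exact one_mem H
  have hHC : H ≤ centralizer ({c} : Set G) := fun a ha =>
    mem_centralizer_singleton_iff.2 (mem_centralizer_iff.1 hc a ha)
  rcases Nat.even_or_odd (orderOf c) with he | ho
  · set z := c ^ (orderOf c / 2)
    have hzo : orderOf z = 2 := by
      rw [orderOf_pow_of_dvd (by have := orderOf_pos c; obtain ⟨r, hr⟩ := he; omega) (Nat.div_dvd_of_dvd (even_iff_two_dvd.1 he)),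
        Nat.div_div_self (even_iff_two_dvd.1 he) (orderOf_pos c).ne']
    obtain ⟨P, hP⟩ := (hz2 z hzo).exists_le_sylow
    have hle : centralizer ({c} : Set G) ≤ centralizer ({z} : Set G) := fun a ha =>
      mem_centralizer_singleton_iff.2 ((show Commute a c from mem_centralizer_singleton_iff.1 ha).pow_right _).eq
    exact hloc P H ((hHC.trans hle).trans hP) hH c (hP (hle (mem_centralizer_singleton_iff.2 rfl))) hc
  · rcases hodd c hc1 ho with h | ⟨l, hl, h⟩
    · exact absurd (isCyclic_of_le hHC) hH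
    · haveI := Fact.mk hl
      have hd := (card_dvd_of_le hHC).trans h
      obtain ⟨i, hi, hi'⟩ := (Nat.dvd_prime_pow hl).1 hd
      rcases i with _ | _ | _ | i
      · exact absurd (@isCyclic_of_subsingleton _ _ (Nat.card_eq_one_iff_unique.1 hi').1) hH
      · exact absurd (isCyclic_of_prime_card (p := l) (by simpa using hi')) hH
      · have : H = centralizer ({c} : Set G) :=
          eq_of_le_of_card_ge hHC (hi'.symm ▸ Nat.le_of_dvd (pow_pos hl.pos 2) h)
        rw [this]; exact mem_centralizer_singleton_iff.2 rfl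
      · omega

theorem scn_of_equiv {G' : Type*} [Group G'] [Finite G'] (e : G ≃* G') (h : SCN G') : SCN G := by
  intro H hH x hx
  have hH' : ¬ IsCyclic (H.map e.toMonoidHom) := fun hc =>
    hH ((H.equivMapOfInjective _ e.injective).isCyclic.2 hc)
  obtain ⟨a, ha, hax⟩ := h _ hH' (x := e x) (mem_centralizer_iff.2 (by
    rintro _ ⟨b, hb, rfl⟩
    show e b * e x = e x * e b
    rw [← map_mul, ← map_mul, mem_centralizer_iff.1 hx b hb]))
  rwa [← e.injective hax]

/-- A group of order six is not simple. -/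
theorem not_simple_six (H : Type*) [Group H] [Finite H] [IsSimpleGroup H] (h : Nat.card H = 6) : False := by
  haveI : Fact (Nat.Prime 3) := ⟨Nat.prime_three⟩
  obtain ⟨x, hx⟩ := exists_prime_orderOf_dvd_card' (G := H) 3 (by rw [h]; norm_num)
  have hi : (zpowers x).index = 2 := by
    have := (zpowers x).card_mul_index
    rw [Nat.card_zpowers, hx, h] at this
    omega
  rcases (Subgroup.normal_of_index_eq_two hi).eq_bot_or_eq_top with e | e
  · rw [e, index_bot, h] at hi; omega
  · rw [e, index_top] at hi; omega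

section PSL

variable {F : Type} [Field F] [Fintype F] (p : ℕ) [Fact p.Prime] [CharP F p]

local notation "L" => Matrix.ProjectiveSpecialLinearGroup (Fin 2) F

/-- The centraliser of an element whose order is prime to `2 p` has abelian centraliser, when the
centralisers of involutions are 2-groups. -/
theorem cent_odd_comm (hz2 : ∀ z : L, orderOf z = 2 → IsPGroup 2 (centralizer ({z} : Set L))) {c : L}
    (hc1 : c ≠ 1) (hodd : Odd (orderOf c)) (hp : ¬ p ∣ orderOf c) :
    ∀ a ∈ centralizer ({c} : Set L), ∀ b ∈ centralizer ({c} : Set L), a * b = b * a := by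
  obtain ⟨A, rfl⟩ := QuotientGroup.mk_surjective c
  obtain ⟨w, hw, hinv, hwz⟩ := CfsgLib.Classical.Dickson.exists_inverter
    (CfsgLib.Classical.Dickson.trc_sq_ne_four p hc1 hp)
  set c : L := (A : L)
  have hw1 : w ≠ 1 := fun e => hwz (e ▸ one_mem _)
  have hwo : orderOf w = 2 := orderOf_eq_prime (by rw [pow_two, hw]) hw1
  have hC : ∀ x ∈ centralizer ({c} : Set L), w * x * w⁻¹ ∈ centralizer ({c} : Set L) := by
    intro x hx
    refine mem_centralizer_singleton_iff.2 ?_
    have e : c = w * c⁻¹ * w⁻¹ := by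
      rw [show w * c⁻¹ * w⁻¹ = (w * c * w⁻¹)⁻¹ by group, hinv, inv_inv]
    rw [e]
    have h1 : x * c⁻¹ = c⁻¹ * x := ((show Commute x c from mem_centralizer_singleton_iff.1 hx).inv_right).eq
    calc w * x * w⁻¹ * (w * c⁻¹ * w⁻¹) = w * (x * c⁻¹) * w⁻¹ := by group
      _ = w * c⁻¹ * w⁻¹ * (w * x * w⁻¹) := by rw [h1]; group
  have hinvert := CfsgLib.PLocal.CAGroup.inverted_of_fpf hwo (centralizer ({c} : Set L)) hC fun x hx hfx => by
    by_contra hx1
    rw [mul_inv_eq_iff_eq_mul] at hfx
    obtain ⟨k, hk⟩ := hz2 w hwo ⟨x, mem_centralizer_singleton_iff.2 hfx.symm⟩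
    have hk' : x ^ 2 ^ k = 1 := congrArg Subtype.val hk
    obtain ⟨j, -, hj⟩ := (Nat.dvd_prime_pow Nat.prime_two).1 (orderOf_dvd_of_pow_eq_one hk')
    rcases j with _ | j
    · exact hx1 (orderOf_eq_one_iff.1 hj)
    · set z := x ^ (orderOf x / 2)
      have hzo : orderOf z = 2 := by
        rw [orderOf_pow_of_dvd (by rw [hj, pow_succ]; have := Nat.two_pow_pos j; omega)
          (Nat.div_dvd_of_dvd (hj ▸ dvd_pow_self 2 (by omega))), Nat.div_div_self (hj ▸ dvd_pow_self 2 (by omega)) (orderOf_pos x).ne']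
      obtain ⟨i, hi⟩ := hz2 z hzo ⟨c, mem_centralizer_singleton_iff.2
        ((show Commute x c from mem_centralizer_singleton_iff.1 hx).symm.pow_right _).eq⟩
      have hi' : c ^ 2 ^ i = 1 := congrArg Subtype.val hi
      exact hc1 (orderOf_eq_one_iff.1 (Nat.eq_one_of_dvd_coprimes
        ((Nat.prime_two.coprime_iff_not_dvd.2 hodd.not_two_dvd_nat).symm.pow_right i) dvd_rfl
        (orderOf_dvd_of_pow_eq_one hi')))
  intro a ha b hb
  have e := hinvert _ (mul_mem ha hb)
  rw [show w * (a * b) * w⁻¹ = (w * a * w⁻¹) * (w * b * w⁻¹) by group, hinvert a ha, hinvert b hb,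
    ← mul_inv_rev, inv_inj] at e
  exact e.symm

/-- Elements of prime orders `r ≠ l` commute only if some element has order `r l`. -/
theorem not_commute {r l : ℕ} (hr : r.Prime) (hl : l.Prime) (hne : r ≠ l) (hno : ∀ g : G, orderOf g ≠ r * l)
    {x y : G} (hx : orderOf x = r) (hy : orderOf y = l) : x * y ≠ y * x := fun h =>
  hno (x * y) (by rw [(show Commute x y from h).orderOf_mul_eq_mul_orderOf_of_coprime
    (by rw [hx, hy]; exact (Nat.coprime_primes hr hl).2 hne), hx, hy])

/-- If all elements commuting with `x` avoid `r`, the centraliser of `x` has order prime to `r`. -/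
theorem not_dvd_cent {r l : ℕ} (hr : r.Prime) (hl : l.Prime) (hne : r ≠ l) (hno : ∀ g : G, orderOf g ≠ r * l)
    {c : G} (hc : l ∣ orderOf c) : ¬ r ∣ Nat.card (centralizer ({c} : Set G)) := by
  intro h
  haveI := Fact.mk hr
  obtain ⟨⟨x, hx⟩, hxo⟩ := exists_prime_orderOf_dvd_card' r h
  rw [Subgroup.orderOf_mk] at hxo
  have hy : orderOf (c ^ (orderOf c / l)) = l := by
    rw [orderOf_pow_of_dvd ((Nat.div_pos (Nat.le_of_dvd (orderOf_pos c) hc) hl.pos).ne') (Nat.div_dvd_of_dvd hc),
      Nat.div_div_self hc (orderOf_pos c).ne']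
  exact not_commute hr hl hne hno hxo hy
    ((show Commute x c from mem_centralizer_singleton_iff.1 hx).pow_right _).eq

theorem scn_psl_four (hF : Fintype.card F = 4) : SCN L := by
  haveI : Fact (Nat.Prime 2) := ⟨Nat.prime_two⟩
  haveI : CharP F 2 := by
    refine ringChar.of_eq ?_
    rw [FiniteField.even_card_iff_char_two, hF]
  have hrange := CfsgLib.Recog.PSLTwoOrders.range_orderOf (F := F) 2 (by rw [hF])
  have hord : ∀ g : L, orderOf g = 1 ∨ orderOf g = 2 ∨ orderOf g = 3 ∨ orderOf g = 5 := by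
    intro g
    have h : orderOf g ∈ Set.range (orderOf : L → ℕ) := ⟨g, rfl⟩
    rw [hrange, Set.mem_setOf_eq, hF] at h
    norm_num at h
    rcases h with h | h | h
    · exact Or.inr (Or.inl h)
    · rcases (Nat.dvd_prime Nat.prime_three).1 h with e | e
      · exact Or.inl e
      · exact Or.inr (Or.inr (Or.inl e))
    · rcases (Nat.dvd_prime Nat.prime_five).1 h with e | e
      · exact Or.inl e
      · exact Or.inr (Or.inr (Or.inr e))
  have hcard : Nat.card L = 60 := by
    have h := CfsgLib.Classical.Dickson.gcd_mul_card_psl (F := F) hF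
    rw [show Nat.gcd 2 (4 - 1) = 1 from rfl, one_mul] at h
    rw [h]; norm_num
  have hno : ∀ r l : ℕ, r.Prime → l.Prime → r ≠ l → ∀ g : L, orderOf g ≠ r * l := by
    intro r l hr hl hne g h
    have h2 := hr.two_le
    have h2' := hl.two_le
    have h4 : 4 ≤ r * l := by nlinarith
    rcases hord g with e | e | e | e
    · omega
    · omega
    · omega
    · have hd : r ∣ 5 := by rw [← e, h]; exact dvd_mul_right r l
      rcases (Nat.dvd_prime Nat.prime_five).1 hd with e' | e'
      · omega
      · rw [e, e'] at h; omega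
  refine scn_of_local (fun z hz => ?_) (fun P H hHP hH x hx _ => ?_) (fun c hc1 hc => ?_)
  · refine IsPGroup.of_card (Nat.eq_prime_pow_of_unique_prime_dvd (p := 2) Nat.card_pos.ne' fun {r} hr hrd => ?_)
    by_contra hne
    exact not_dvd_cent hr Nat.prime_two hne (hno r 2 hr Nat.prime_two hne) (by rw [hz]) hrd
  · have h4 : Nat.card (P : Subgroup L) = 4 := by
      rw [P.card_eq_multiplicity, hcard, show (60 : ℕ) = 2 ^ 2 * 15 by norm_num,
        Nat.factorization_mul (by norm_num) (by norm_num), Finsupp.add_apply,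
        Nat.factorization_pow_self Nat.prime_two,
        Nat.factorization_eq_zero_of_not_dvd (by norm_num : ¬ 2 ∣ 15)]
      norm_num
    have hd := card_dvd_of_le hHP
    rw [h4] at hd
    obtain ⟨i, hi, hi'⟩ := (Nat.dvd_prime_pow Nat.prime_two).1 (show Nat.card H ∣ 2 ^ 2 from hd)
    rcases i with _ | _ | _ | i
    · exact absurd (@isCyclic_of_subsingleton _ _ (Nat.card_eq_one_iff_unique.1 hi').1) hH
    · exact absurd (isCyclic_of_prime_card (p := 2) (by simpa using hi')) hH
    · rw [eq_of_le_of_card_ge hHP (by rw [h4, hi']; norm_num)]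
      exact hx
    · omega
  · left
    obtain ⟨l, hl, hlo⟩ : ∃ l : ℕ, (l = 3 ∨ l = 5) ∧ orderOf c = l := by
      rcases hord c with e | e | e | e
      · exact absurd (orderOf_eq_one_iff.1 e) hc1
      · rw [e] at hc; exact absurd hc (by decide)
      · exact ⟨3, Or.inl rfl, e⟩
      · exact ⟨5, Or.inr rfl, e⟩
    have hlp : l.Prime := by rcases hl with rfl | rfl <;> norm_num
    haveI := Fact.mk hlp
    have hpg := Nat.eq_prime_pow_of_unique_prime_dvd (Nat.card_pos (α := centralizer ({c} : Set L))).ne'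
      (p := l) fun {r} hr hrd => by
        by_contra hne
        exact not_dvd_cent hr hlp hne (hno r l hr hlp hne) (by rw [hlo]) hrd
    have hd := (Subgroup.card_subgroup_dvd_card (centralizer ({c} : Set L)))
    rw [hcard, hpg] at hd
    generalize hk : ((Nat.card (centralizer ({c} : Set L))).primeFactorsList.length) = k at hpg hd
    rcases k with _ | _ | k
    · exact @isCyclic_of_subsingleton _ _ (Nat.card_eq_one_iff_unique.1 (by simpa using hpg)).1
    · exact isCyclic_of_prime_card (p := l) (by simpa using hpg)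
    · exfalso
      have h2 : l ^ 2 ∣ 60 := (pow_dvd_pow l (by omega)).trans hd
      rcases hl with rfl | rfl <;> norm_num at h2

theorem scn_psl_odd {j : ℕ} (hq5 : 5 ≤ Fintype.card F) (hodd : Fintype.card F % 2 = 1)
    (hq : Fintype.card F = p ∨ Fintype.card F = p ^ 2)
    (hj : (Fintype.card F - 1) / 2 = 2 ^ j ∨ (Fintype.card F + 1) / 2 = 2 ^ j) : SCN L := by
  classical
  haveI : Fact (Nat.Prime 2) := ⟨Nat.prime_two⟩
  set q := Fintype.card F with hqdef
  have hp := (Fact.out : p.Prime)
  have hpq : p ∣ q := by rcases hq with h | h <;> rw [h]; exact dvd_pow_self p two_ne_zero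
  have hp2 : p ≠ 2 := fun h => by rw [h] at hpq; omega
  have hpodd : Odd p := hp.odd_of_ne_two hp2
  have hgcd : Nat.gcd 2 (q - 1) = 2 := Nat.gcd_eq_left (by omega)
  -- the odd torus
  obtain ⟨s, hs, hsodd, htor, hj1⟩ : ∃ s : ℕ,
      (q - 1) / 2 * ((q + 1) / 2) = 2 ^ j * s ∧ Odd s ∧
      (∀ n, (n ∣ (q - 1) / 2 ∨ n ∣ (q + 1) / 2) ↔ (n ∣ 2 ^ j ∨ n ∣ s)) ∧ 1 ≤ j := by
    have hj1 : 1 ≤ j := by
      rcases j with _ | j
      · rw [pow_zero] at hj; omega
      · omega
    have h2 : 2 ∣ 2 ^ j := dvd_pow_self 2 (by omega)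
    rcases hj with h | h
    · exact ⟨(q + 1) / 2, by rw [h], Nat.odd_iff.2 (by omega), fun n => by rw [h], hj1⟩
    · exact ⟨(q - 1) / 2, by rw [h, mul_comm], Nat.odd_iff.2 (by omega), fun n => by rw [h, or_comm], hj1⟩
  have hrange := CfsgLib.Recog.PSLTwoOrders.range_orderOf (F := F) p (by rw [← hqdef]; omega)
  rw [← hqdef, hgcd] at hrange
  have hord : ∀ g : L, orderOf g = p ∨ orderOf g ∣ 2 ^ j ∨ orderOf g ∣ s := by
    intro g
    have h : orderOf g ∈ Set.range (orderOf : L → ℕ) := ⟨g, rfl⟩
    rw [hrange] at h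
    rcases h with h | h | h
    · exact Or.inl h
    · exact Or.inr ((htor _).1 (Or.inl h))
    · exact Or.inr ((htor _).1 (Or.inr h))
  have hps : ¬ p ∣ s ∧ ¬ p ∣ 2 ^ j := by
    have key : ∀ n, (n ∣ (q - 1) / 2 ∨ n ∣ (q + 1) / 2) → ¬ p ∣ n := fun n hn =>
      CfsgLib.Classical.Dickson.not_dvd_of_dvd_torus p (F := F) rfl (by rw [← hqdef, hgcd]; exact hn.symm)
    exact ⟨key s ((htor s).2 (Or.inr dvd_rfl)), key _ ((htor _).2 (Or.inl dvd_rfl))⟩
  have hGcard : Nat.card L = q * 2 ^ (j + 1) * s := by
    have h := CfsgLib.Classical.Dickson.gcd_mul_card_psl (F := F) hqdef.symm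
    rw [hgcd] at h
    have e : q * (q ^ 2 - 1) = 4 * (q * ((q - 1) / 2 * ((q + 1) / 2))) := by
      rw [show q ^ 2 - 1 = (q + 1) * (q - 1) by rw [← Nat.sq_sub_sq, one_pow]]
      conv_lhs => rw [show q + 1 = 2 * ((q + 1) / 2) by omega, show q - 1 = 2 * ((q - 1) / 2) by omega]
      ring
    rw [e, hs] at h
    rw [pow_succ]
    linarith
  -- no element of order `r l` mixing the classes
  have hno : ∀ r l : ℕ, r.Prime → l.Prime → r ≠ l → (l = 2 ∨ l = p ∨ r = 2 ∨ r = p) →
      ∀ g : L, orderOf g ≠ r * l := by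
    intro r l hr hl hne hcase g h
    have hrd : r ∣ orderOf g := h ▸ dvd_mul_right r l
    have hld : l ∣ orderOf g := h ▸ dvd_mul_left l r
    rcases hord g with e | e | e
    · rw [e] at hrd hld
      exact hne (((Nat.prime_dvd_prime_iff_eq hr hp).1 hrd).trans ((Nat.prime_dvd_prime_iff_eq hl hp).1 hld).symm)
    · exact hne (((Nat.prime_dvd_prime_iff_eq hr Nat.prime_two).1 (hr.dvd_of_dvd_pow (hrd.trans e))).trans
        ((Nat.prime_dvd_prime_iff_eq hl Nat.prime_two).1 (hl.dvd_of_dvd_pow (hld.trans e))).symm)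
    · rcases hcase with rfl | rfl | rfl | rfl
      · exact hsodd.not_two_dvd_nat (hld.trans e)
      · exact hps.1 (hld.trans e)
      · exact hsodd.not_two_dvd_nat (hrd.trans e)
      · exact hps.1 (hrd.trans e)
  have hz2 : ∀ z : L, orderOf z = 2 → IsPGroup 2 (centralizer ({z} : Set L)) := fun z hz =>
    IsPGroup.of_card (Nat.eq_prime_pow_of_unique_prime_dvd Nat.card_pos.ne' fun {r} hr hrd => by
      by_contra hne
      exact not_dvd_cent hr Nat.prime_two hne (hno r 2 hr Nat.prime_two hne (Or.inl rfl)) (by rw [hz]) hrd)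
  have hfac : ∀ {r : ℕ}, r.Prime → r ∣ s → (Nat.card L).factorization r = s.factorization r := by
    intro r hr hrs
    have hr2 : r ≠ 2 := fun h => hsodd.not_two_dvd_nat (h ▸ hrs)
    have hrp : r ≠ p := fun h => hps.1 (h ▸ hrs)
    have hrq : ¬ r ∣ q := by
      intro h
      rcases hq with e | e <;> rw [e] at h
      · exact hrp ((Nat.prime_dvd_prime_iff_eq hr hp).1 h)
      · exact hrp ((Nat.prime_dvd_prime_iff_eq hr hp).1 (hr.dvd_of_dvd_pow h))
    rw [hGcard, Nat.factorization_mul (by positivity) hsodd.pos.ne', Nat.factorization_mul (by omega) (by positivity),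
      Finsupp.add_apply, Finsupp.add_apply, Nat.factorization_eq_zero_of_not_dvd hrq,
      Nat.factorization_eq_zero_of_not_dvd (fun h => hr2 ((Nat.prime_dvd_prime_iff_eq hr Nat.prime_two).1 (hr.dvd_of_dvd_pow h))),
      zero_add, zero_add]
  refine scn_of_local hz2 (fun P H hHP hH x hx hxC => ?_) (fun c hc1 hc => ?_)
  · -- the dihedral Sylow 2-subgroup
    have hjt : 2 ^ j ∣ (q + 1) / Nat.gcd 2 (q - 1) ∨ 2 ^ j ∣ (q - 1) / Nat.gcd 2 (q - 1) := by
      rw [hgcd]; exact ((htor _).2 (Or.inl dvd_rfl)).symm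
    obtain ⟨D, hD, ⟨e⟩, -⟩ := CfsgLib.Classical.Dickson.exists_dihedral p (F := F) (hqdef.symm) (by omega)
      (Nat.le_self_pow (by omega) 2) hjt
    have hDS : IsPGroup 2 D := IsPGroup.of_card (n := j + 1) (by rw [hD, pow_succ'])
    obtain ⟨T, hT⟩ := hDS.exists_le_sylow
    have hTD : (T : Subgroup L) = D := by
      refine (eq_of_le_of_card_ge hT ?_).symm
      rw [T.card_eq_multiplicity, hD, hGcard, Nat.factorization_mul (by positivity) hsodd.pos.ne',
        Nat.factorization_mul (by omega) (by positivity), Finsupp.add_apply, Finsupp.add_apply,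
        Nat.factorization_eq_zero_of_not_dvd (show ¬ 2 ∣ q by omega), Nat.factorization_pow_self Nat.prime_two,
        Nat.factorization_eq_zero_of_not_dvd hsodd.not_two_dvd_nat, zero_add, add_zero, pow_succ']
    obtain ⟨g, hg⟩ := MulAction.exists_smul_eq L P T
    let φ : (P : Subgroup L) ≃* DihedralGroup (2 ^ j) :=
      ((Sylow.equiv P T)).trans ((MulEquiv.subgroupCongr hTD).trans e)
    set K := (H.subgroupOf (P : Subgroup L)).map φ.toMonoidHom with hK
    have hKnc : ¬ IsCyclic K := fun hc => hH (by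
      have h1 := ((H.subgroupOf (P : Subgroup L)).equivMapOfInjective _ φ.injective).isCyclic.2 hc
      exact (subgroupOfEquivOfLe hHP).isCyclic.1 h1)
    set y := φ ⟨x, hx⟩
    have hy : ∀ k ∈ K, k * y = y * k := by
      rintro _ ⟨a, ha, rfl⟩
      show φ a * φ ⟨x, hx⟩ = φ ⟨x, hx⟩ * φ a
      rw [← map_mul, ← map_mul]
      exact congrArg φ (Subtype.ext (mem_centralizer_iff.1 hxC a (mem_subgroupOf.1 ha)))
    suffices hyK : y ∈ K by
      obtain ⟨a, ha, hay⟩ := hyK
      rw [φ.injective hay] at ha
      exact mem_subgroupOf.1 ha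
    -- inside the dihedral group
    haveI : NeZero (2 ^ j) := ⟨pow_ne_zero _ two_ne_zero⟩
    obtain ⟨i, hi⟩ : ∃ i, DihedralGroup.sr i ∈ K := by
      by_contra hno'
      push Not at hno'
      refine hKnc ?_
      have hle : K ≤ zpowers (DihedralGroup.r (1 : ZMod (2 ^ j))) := by
        rintro (a | a) ha
        · exact mem_zpowers_iff.2 ⟨(a.val : ℤ), by
            rw [zpow_natCast, DihedralGroup.r_one_pow, ZMod.natCast_zmod_val]⟩
        · exact absurd ha (hno' a)
      exact isCyclic_of_le hle
    obtain ⟨a, ha, ha0⟩ : ∃ a : ZMod (2 ^ j), DihedralGroup.r a ∈ K ∧ a ≠ 0 := by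
      by_contra hno'
      push Not at hno'
      refine hKnc (isCyclic_of_le (show K ≤ zpowers (DihedralGroup.sr i) from ?_))
      rintro (b | b) hb
      · rw [hno' b hb, show DihedralGroup.r (0 : ZMod (2 ^ j)) = 1 from rfl]; exact one_mem _
      · have h := mul_mem hi hb
        rw [DihedralGroup.sr_mul_sr] at h
        rw [show b = i from sub_eq_zero.1 (hno' _ h)]
        exact mem_zpowers _
    have hhalf : DihedralGroup.r (CfsgLib.TwoGroups.half j) ∈ K := by
      obtain ⟨k, hk, hk'⟩ : ∃ k, 1 ≤ k ∧ orderOf (DihedralGroup.r a) = 2 ^ k := by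
        have hd : orderOf (DihedralGroup.r a) ∣ 2 ^ (j + 1) := by
          refine (_root_.orderOf_dvd_natCard (DihedralGroup.r a)).trans ?_
          rw [DihedralGroup.nat_card, pow_succ']
        obtain ⟨k, -, hk⟩ := (Nat.dvd_prime_pow Nat.prime_two).1 hd
        refine ⟨k, Nat.one_le_iff_ne_zero.2 fun h => ha0 ?_, hk⟩
        rw [h, pow_zero, orderOf_eq_one_iff, DihedralGroup.one_def, DihedralGroup.r.injEq] at hk
        exact hk
      obtain ⟨k, rfl⟩ : ∃ k', k = k' + 1 := ⟨k - 1, by omega⟩
      have hpw := pow_mem ha (2 ^ k)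
      rw [DihedralGroup.r_pow] at hpw
      have h2 : 2 * (a * ((2 ^ k : ℕ) : ZMod (2 ^ j))) = 0 := by
        have := pow_orderOf_eq_one (DihedralGroup.r a)
        rw [hk', pow_succ, DihedralGroup.r_pow, DihedralGroup.one_def, DihedralGroup.r.injEq] at this
        push_cast at this ⊢
        linear_combination this
      rcases CfsgLib.TwoGroups.two_mul_eq_zero hj1 h2 with e | e
      · exfalso
        have h1 : DihedralGroup.r a ^ 2 ^ k = 1 := by rw [DihedralGroup.r_pow, e]; rfl
        have := Nat.le_of_dvd (Nat.two_pow_pos k) (hk' ▸ orderOf_dvd_of_pow_eq_one h1)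
        have : 2 ^ k < 2 ^ (k + 1) := Nat.pow_lt_pow_right one_lt_two (by omega)
        omega
      · rwa [e] at hpw
    have hc := hy _ hi
    rcases hyc : y with b | b
    · rw [hyc, DihedralGroup.sr_mul_r, DihedralGroup.r_mul_sr, DihedralGroup.sr.injEq] at hc
      have : 2 * b = 0 := by linear_combination hc
      rcases CfsgLib.TwoGroups.two_mul_eq_zero hj1 this with e | e <;> rw [e]
      · exact one_mem K
      · exact hhalf
    · rw [hyc, DihedralGroup.sr_mul_sr, DihedralGroup.sr_mul_sr, DihedralGroup.r.injEq] at hc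
      have : 2 * (b - i) = 0 := by linear_combination hc
      rcases CfsgLib.TwoGroups.two_mul_eq_zero hj1 this with e | e
      · rw [show b = i from sub_eq_zero.1 e]; exact hi
      · have := mul_mem hi hhalf
        rw [DihedralGroup.sr_mul_r, ← e, add_sub_cancel] at this
        exact this
  · -- odd order
    rcases hord c with e | e | e
    · refine Or.inr ⟨p, hp, ?_⟩
      have hpg := Nat.eq_prime_pow_of_unique_prime_dvd (Nat.card_pos (α := centralizer ({c} : Set L))).ne'
        (p := p) fun {r} hr hrd => by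
          by_contra hne
          exact not_dvd_cent hr hp hne (hno r p hr hp hne (Or.inr (Or.inl rfl))) (by rw [e]) hrd
      have hd : Nat.card (centralizer ({c} : Set L)) ∣ q := by
        have h1 := Subgroup.card_subgroup_dvd_card (centralizer ({c} : Set L))
        rw [hGcard, mul_assoc] at h1
        refine Nat.Coprime.dvd_of_dvd_mul_right ?_ h1
        rw [hpg]
        refine Nat.Coprime.pow_left _ (hp.coprime_iff_not_dvd.2 fun h => ?_)
        rcases hp.dvd_mul.1 h with h | h
        · exact hp2 ((Nat.prime_dvd_prime_iff_eq hp Nat.prime_two).1 (hp.dvd_of_dvd_pow h))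
        · exact hps.1 h
      rcases hq with h | h
      · exact (h ▸ hd).trans (dvd_pow_self p two_ne_zero)
      · exact h ▸ hd
    · exact absurd (orderOf_eq_one_iff.1 (Nat.eq_one_of_dvd_coprimes
        ((Nat.prime_two.coprime_iff_not_dvd.2 hc.not_two_dvd_nat).symm.pow_right j) dvd_rfl e)) hc1
    · left
      have hcp : ¬ p ∣ orderOf c := fun h => hps.1 (h.trans e)
      haveI : IsMulCommutative (centralizer ({c} : Set L)) :=
        ⟨⟨fun a b => Subtype.ext (cent_odd_comm p hz2 hc1 hc hcp a a.2 b b.2)⟩⟩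
      obtain ⟨l, hl, hld⟩ := Nat.exists_prime_and_dvd (fun h => hc1 (orderOf_eq_one_iff.1 h) : orderOf c ≠ 1)
      haveI : IsZGroup (centralizer ({c} : Set L)) := by
        refine ⟨fun r hr R => ?_⟩
        haveI := Fact.mk hr
        by_cases hrd : r ∣ Nat.card (R : Subgroup (centralizer ({c} : Set L)))
        · have hrC : r ∣ Nat.card (centralizer ({c} : Set L)) := hrd.trans (Subgroup.card_subgroup_dvd_card _)
          have hr2 : r ≠ 2 := by
            intro h
            subst h
            have hne2 : 2 ≠ l := fun e' => by subst e'; exact hc.not_two_dvd_nat hld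
            exact not_dvd_cent hr hl hne2 (hno 2 l hr hl hne2 (Or.inr (Or.inr (Or.inl rfl)))) hld hrC
          have hrp : r ≠ p := by
            intro h
            subst h
            have hne2 : r ≠ l := fun e' => by subst e'; exact hcp hld
            exact not_dvd_cent hr hl hne2 (hno r l hr hl hne2 (Or.inr (Or.inr (Or.inr rfl)))) hld hrC
          obtain ⟨⟨x, hx⟩, hxo⟩ := exists_prime_orderOf_dvd_card' r hrC
          rw [Subgroup.orderOf_mk] at hxo
          have hrs : r ∣ s := by
            rcases hord x with e' | e' | e' <;> rw [hxo] at e'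
            · exact absurd e' hrp
            · exact absurd ((Nat.prime_dvd_prime_iff_eq hr Nat.prime_two).1 (hr.dvd_of_dvd_pow e')) hr2
            · exact e'
          obtain ⟨g, hg⟩ : r ^ s.factorization r ∈ Set.range (orderOf : L → ℕ) := by
            rw [hrange]
            exact Or.inr ((htor _).2 (Or.inr (Nat.ordProj_dvd s r)))
          have hgp : IsPGroup r (zpowers g) := IsPGroup.of_card (n := s.factorization r) (by rw [Nat.card_zpowers, hg])
          obtain ⟨U, hU⟩ := hgp.exists_le_sylow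
          have hUc : IsCyclic (U : Subgroup L) := by
            have : (U : Subgroup L) = zpowers g := (eq_of_le_of_card_ge hU (by
              rw [U.card_eq_multiplicity, hfac hr hrs, Nat.card_zpowers, hg])).symm
            rw [this]; infer_instance
          obtain ⟨V, hV⟩ := (R.isPGroup'.map (centralizer ({c} : Set L)).subtype).exists_le_sylow
          haveI : IsCyclic (V : Subgroup L) := (Sylow.equiv U V).isCyclic.1 hUc
          haveI := isCyclic_of_le hV
          exact ((R : Subgroup (centralizer ({c} : Set L))).equivMapOfInjective _ (Subgroup.subtype_injective _)).isCyclic.2 inferInstance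
        · obtain ⟨k, hk⟩ := IsPGroup.iff_card.1 R.isPGroup'
          rw [hk] at hrd
          rcases k with _ | k
          · exact @isCyclic_of_subsingleton _ _ (Nat.card_eq_one_iff_unique.1 hk).1
          · exact absurd (dvd_pow_self r (by omega)) hrd
      haveI : Group.IsNilpotent (centralizer ({c} : Set L)) := by
        letI : CommGroup (centralizer ({c} : Set L)) :=
          { (inferInstance : Group (centralizer ({c} : Set L))) with
            mul_comm := fun a b => Subtype.ext (cent_odd_comm p hz2 hc1 hc hcp a a.2 b b.2) }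
        infer_instance
      infer_instance

end PSL

end CfsgLib.PLocal.SelfCentNoncyclic
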