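import Mathlib
import Cfsg.Agent.Lib.PLocal.SelfCentNoncyclic.Basic
import Cfsg.Agent.Lib.TwoGroups.DihedralFusion
import Cfsg.Agent.Lib.TwoGroups.SemiDihedralFusion
import Cfsg.Agent.Lib.PGroups.BSW.Zassenhaus
import Cfsg.Agent.Lib.Classical.Dickson.SubgroupFacts
import Cfsg.Agent.Lib.Orders.SelfCentralizingNoncyclic
import Cfsg.Agent.S0115
import Cfsg.Agent.S4399
import Cfsg.Agent.S0508
import Cfsg.Agent.Lib.ZStar.Main

/-!
# Simple groups with self-centralising non-cyclic subgroups

Owner: helper15.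
-/

set_option autoImplicit false
set_option linter.all false

namespace CfsgLib.PLocal.SelfCentNoncyclic

open Subgroup

/-- The involutions of a dihedral 2-group other than a given one form a set of 2-power size. -/
theorem card_dihedral_involutions {n : ℕ} (hn : 1 ≤ n) :
    Nat.card {g : DihedralGroup (2 ^ n) // orderOf g = 2} = 2 ^ n + 1 := by
  classical
  haveI : NeZero (2 ^ n) := ⟨pow_ne_zero _ two_ne_zero⟩
  have hh : orderOf (DihedralGroup.r (CfsgLib.TwoGroups.half n) : DihedralGroup (2 ^ n)) = 2 := by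
    refine orderOf_eq_prime ?_ ?_
    · rw [pow_two, DihedralGroup.r_mul_r, CfsgLib.TwoGroups.half_add_half hn]; rfl
    · rw [Ne, DihedralGroup.one_def, DihedralGroup.r.injEq]; exact CfsgLib.TwoGroups.half_ne_zero hn
  let φ : Option (ZMod (2 ^ n)) → {g : DihedralGroup (2 ^ n) // orderOf g = 2} := fun o =>
    o.elim ⟨_, hh⟩ fun i => ⟨DihedralGroup.sr i, DihedralGroup.orderOf_sr i⟩
  have hφ : Function.Bijective φ := by
    refine ⟨?_, ?_⟩
    · rintro (_ | i) (_ | j) h <;> simp [φ] at h ⊢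
      exact h
    · rintro ⟨g | g, hg⟩
      · rw [orderOf_eq_prime_iff, pow_two, DihedralGroup.r_mul_r] at hg
        obtain ⟨h1, h2⟩ := hg
        rw [DihedralGroup.one_def, DihedralGroup.r.injEq, ← two_mul] at h1
        rcases CfsgLib.TwoGroups.two_mul_eq_zero hn h1 with e | e
        · exact absurd (by rw [e]; rfl) h2
        · exact ⟨none, Subtype.ext (by simp [φ, e])⟩
      · exact ⟨some g, rfl⟩
  rw [← Nat.card_eq_of_bijective φ hφ, Finite.card_option, Nat.card_zmod]

/-- The involutions of a semidihedral group. -/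
theorem card_semiDihedral_involutions (m : ℕ) :
    Nat.card {g : CfsgLib.TwoGroups.SemiDihedral m // orderOf g = 2} = 2 ^ (m + 2) + 1 := by
  classical
  open CfsgLib.TwoGroups CfsgLib.TwoGroups.SemiDihedral in
  let μ : ZMod (2 ^ (m + 3)) →+ ZMod (2 ^ (m + 3)) := AddMonoidHom.mulLeft 2
  have hker : Nat.card μ.ker = 2 := by
    rw [Nat.card_eq_two_iff]
    refine ⟨⟨0, μ.ker.zero_mem⟩, ⟨CfsgLib.TwoGroups.SemiDihedral.h m, ?_⟩, ?_, ?_⟩
    · exact CfsgLib.TwoGroups.SemiDihedral.two_mul_h
    · exact fun e => CfsgLib.TwoGroups.SemiDihedral.h_ne (congrArg Subtype.val e).symm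
    · refine Set.eq_univ_of_forall fun ⟨x, hx⟩ => ?_
      rcases CfsgLib.TwoGroups.two_mul_eq_zero (by omega) (show 2 * x = 0 from hx) with e | e
      · exact Or.inl (Subtype.ext e)
      · exact Or.inr (Subtype.ext e)
  have hrange : Nat.card μ.range = 2 ^ (m + 2) := by
    have h := μ.ker.card_mul_index
    rw [AddSubgroup.index_ker, hker, Nat.card_zmod] at h
    exact Nat.eq_of_mul_eq_mul_left two_pos (h.trans (pow_succ' 2 (m + 2)))
  let φ : Option μ.range → {g : CfsgLib.TwoGroups.SemiDihedral m // orderOf g = 2} := fun o =>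
    o.elim ⟨_, (CfsgLib.TwoGroups.SemiDihedral.orderOf_eq_two_iff _).2 (Or.inl rfl)⟩
      fun i => ⟨CfsgLib.TwoGroups.SemiDihedral.ref i.1, (CfsgLib.TwoGroups.SemiDihedral.orderOf_eq_two_iff _).2
        (Or.inr (by obtain ⟨c, hc⟩ := i.2; exact ⟨c, by rw [← hc]; rfl⟩))⟩
  have hφ : Function.Bijective φ := by
    refine ⟨?_, ?_⟩
    · rintro (_ | i) (_ | j) h
      · rfl
      · exact absurd (congrArg Subtype.val h) (CfsgLib.TwoGroups.SemiDihedral.rot_ne_ref _ _)
      · exact absurd (congrArg Subtype.val h).symm (CfsgLib.TwoGroups.SemiDihedral.rot_ne_ref _ _)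
      · exact congrArg some (Subtype.ext (CfsgLib.TwoGroups.SemiDihedral.ref_inj.1 (congrArg Subtype.val h)))
    · rintro ⟨g, hg⟩
      rcases (CfsgLib.TwoGroups.SemiDihedral.orderOf_eq_two_iff g).1 hg with rfl | ⟨c, rfl⟩
      · exact ⟨none, rfl⟩
      · exact ⟨some ⟨2 * c, c, rfl⟩, rfl⟩
  rw [← Nat.card_eq_of_bijective φ hφ, Finite.card_option, hrange]

variable {G : Type*} [Group G] [Finite G]

theorem card_omega {S : Sylow 2 G} {H : Type*} [Group H] (f : H →* G) (hf : Function.Injective f)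
    (hS : f.range = (S : Subgroup G)) {z : G} (hzS : z ∈ (S : Subgroup G)) (hz : orderOf z = 2)
    [Finite H] {c : ℕ} (hc : Nat.card {g : H // orderOf g = 2} = c + 1) :
    Nat.card {v : G // v ∈ (S : Subgroup G) ∧ orderOf v = 2 ∧ v ≠ z} = c := by
  classical
  obtain ⟨z', rfl⟩ : ∃ z', f z' = z := by rw [← hS] at hzS; exact hzS
  have hz' : orderOf z' = 2 := by rwa [orderOf_injective f hf] at hz
  let φ : Option {v : G // v ∈ (S : Subgroup G) ∧ orderOf v = 2 ∧ v ≠ f z'} →
      {v : G // v ∈ (S : Subgroup G) ∧ orderOf v = 2} := fun o =>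
    o.elim ⟨f z', hzS, hz⟩ fun v => ⟨v.1, v.2.1, v.2.2.1⟩
  have hφ : Function.Bijective φ := by
    refine ⟨?_, ?_⟩
    · rintro (_ | a) (_ | b) h
      · rfl
      · exact absurd (congrArg Subtype.val h).symm b.2.2.2
      · exact absurd (congrArg Subtype.val h) a.2.2.2
      · exact congrArg some (Subtype.ext (congrArg Subtype.val h :))
    · rintro ⟨v, hv, hv2⟩
      by_cases e : v = f z'
      · exact ⟨none, Subtype.ext e.symm⟩
      · exact ⟨some ⟨v, hv, hv2, e⟩, rfl⟩
  let ψ : {g : H // orderOf g = 2} → {v : G // v ∈ (S : Subgroup G) ∧ orderOf v = 2} := fun g =>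
    ⟨f g.1, hS ▸ ⟨g.1, rfl⟩, (orderOf_injective f hf g.1).trans g.2⟩
  have hψ : Function.Bijective ψ := by
    refine ⟨fun a b h => Subtype.ext (hf (congrArg Subtype.val h)), ?_⟩
    rintro ⟨v, hv, hv2⟩
    rw [← hS] at hv
    obtain ⟨g, rfl⟩ := hv
    exact ⟨⟨g, by rwa [orderOf_injective f hf] at hv2⟩, rfl⟩
  have := (Nat.card_eq_of_bijective φ hφ).trans ((Nat.card_eq_of_bijective ψ hψ).symm.trans hc)
  rw [Finite.card_option] at this
  omega

variable (hP : SCN G) [IsSimpleGroup G] (hna : ¬ IsMulCommutative G)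
include hP hna

theorem no_index_two : ∀ H : Subgroup G, H.index ≠ 2 := by
  intro H hH
  rcases (Subgroup.normal_of_index_eq_two hH).eq_bot_or_eq_top with e | e
  · rw [e, index_bot] at hH
    haveI : Fact (Nat.Prime 2) := ⟨Nat.prime_two⟩
    haveI := isCyclic_of_prime_card hH
    letI := IsCyclic.commGroup (α := G)
    exact hna ⟨⟨mul_comm⟩⟩
  · rw [e, index_top] at hH; omega

/-- The Sylow 2-subgroups are dihedral and the centralisers of involutions are 2-groups. -/
theorem sylow_dihedral (S : Sylow 2 G) : ∃ (n : ℕ) (f : DihedralGroup (2 ^ n) →* G),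
    1 ≤ n ∧ Function.Injective f ∧ f.range = (S : Subgroup G) := by
  classical
  haveI : Fact (Nat.Prime 2) := ⟨Nat.prime_two⟩
  obtain ⟨z, v, hz, hv, hvz, hzS, hvS, hzc⟩ := exists_four hP hna S
  have hv2 : v * v = 1 := by rw [← pow_two, ← hv, pow_orderOf_eq_one]
  have hz2 : z * z = 1 := by rw [← pow_two, ← hz, pow_orderOf_eq_one]
  obtain ⟨k, hk⟩ := IsPGroup.iff_card.1 S.isPGroup'
  by_cases hab : IsMulCommutative (S : Subgroup G)
  · -- a four-group
    have hS4 : ∀ s ∈ (S : Subgroup G), s = 1 ∨ s = v ∨ s = z ∨ s = v * z := fun s hs =>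
      four_eq hP hv hz (hzc v hvS) hvz
        (congrArg Subtype.val (hab.is_comm.comm ⟨s, hs⟩ ⟨v, hvS⟩)) (hzc s hs)
    have hsq : ∀ s : (S : Subgroup G), s * s = 1 := fun s => Subtype.ext (by
      show (s : G) * s = 1
      rcases hS4 s s.2 with e | e | e | e <;> rw [e]
      · exact one_mul 1
      · exact hv2
      · exact hz2
      · calc v * z * (v * z) = v * (z * v) * z := by group
          _ = v * (v * z) * z := by rw [hzc v hvS]
          _ = (v * v) * (z * z) := by group
          _ = 1 := by rw [hv2, hz2, one_mul])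
    have hcard : Nat.card (S : Subgroup G) = 4 := by
      have hle : Nat.card (S : Subgroup G) ≤ 4 := by
        rw [← Nat.card_fin 4]
        let ι : Fin 4 → (S : Subgroup G) := ![1, ⟨v, hvS⟩, ⟨z, hzS⟩, ⟨v, hvS⟩ * ⟨z, hzS⟩]
        refine Nat.card_le_card_of_surjective ι fun s => ?_
        rcases hS4 s s.2 with e | e | e | e
        · exact ⟨0, Subtype.ext e.symm⟩
        · exact ⟨1, Subtype.ext e.symm⟩
        · exact ⟨2, Subtype.ext e.symm⟩
        · exact ⟨3, Subtype.ext e.symm⟩
      have hnc : ¬ IsCyclic (S : Subgroup G) := not_isCyclic_of_sq hvS hzS hv2 hz2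
        (fun e => by rw [e, orderOf_one] at hv; omega) (fun e => by rw [e, orderOf_one] at hz; omega) hvz
      rw [hk] at hle ⊢
      rcases k with _ | _ | _ | k
      · exact absurd (@isCyclic_of_subsingleton _ _ (Nat.card_eq_one_iff_unique.1 hk).1) hnc
      · exact absurd (isCyclic_of_prime_card (p := 2) (by simpa using hk)) hnc
      · rfl
      · have : 2 ^ 3 ≤ 2 ^ (k + 1 + 1 + 1) := Nat.pow_le_pow_right two_pos (by omega)
        omega
    have hav : (⟨v, hvS⟩ : (S : Subgroup G)) ∉ zpowers (⟨z, hzS⟩ : (S : Subgroup G)) := by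
      intro hmem
      obtain ⟨j, hj⟩ := mem_zpowers_iff.1 hmem
      have hj' : z ^ j = v := congrArg Subtype.val hj
      rcases Int.even_or_odd j with ⟨i, hi⟩ | ⟨i, hi⟩
      · rw [hi, ← two_mul, zpow_mul, zpow_two, hz2, one_zpow] at hj'
        rw [← hj', orderOf_one] at hv; omega
      · rw [hi, zpow_add, zpow_mul, zpow_two, hz2, one_zpow, one_mul, zpow_one] at hj'
        exact hvz hj'.symm
    obtain ⟨e⟩ := CfsgLib.TwoGroups.nonempty_mulEquiv_dihedralGroup (n := 2)
      (a := (⟨z, hzS⟩ : (S : Subgroup G))) (b := ⟨v, hvS⟩) (by rw [Subgroup.orderOf_mk, hz]) (hsq _)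
      hav (by
        rw [inv_eq_of_mul_eq_one_right (hsq ⟨z, hzS⟩), mul_inv_eq_iff_eq_mul]
        exact Subtype.ext (hzc v hvS)) hcard
    obtain ⟨n, f, hn, -, hf, hfS⟩ := CfsgLib.TwoGroups.Dihedral.exists_model (S := S) le_rfl e
    exact ⟨n, f, hn, hf, hfS⟩
  · have hSscn : ∀ H : Subgroup (S : Subgroup G), ¬ IsCyclic H → centralizer (H : Set (S : Subgroup G)) ≤ H := by
      intro H hH x hx
      have hH' : ¬ IsCyclic (H.map (S : Subgroup G).subtype) := fun hc =>
        hH ((H.equivMapOfInjective _ (S : Subgroup G).subtype_injective).isCyclic.2 hc)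
      have hx' : (x : G) ∈ centralizer (H.map (S : Subgroup G).subtype : Set G) := mem_centralizer_iff.2 (by
        rintro _ ⟨a, ha, rfl⟩
        exact congrArg Subtype.val (mem_centralizer_iff.1 hx a ha))
      obtain ⟨a, ha, hax⟩ := hP _ hH' hx'
      rwa [← Subtype.ext hax]
    have hl := (CfsgLib.Orders.SelfCentNoncyclic.selfCentralizing_iff hab hk).1 hSscn
    haveI : Group.IsNilpotent (S : Subgroup G) := S.isPGroup'.isNilpotent
    have hk3 : 3 ≤ k := by
      by_contra hlt
      refine hab ?_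
      interval_cases k
      · haveI := (Nat.card_eq_one_iff_unique.1 hk).1
        exact ⟨⟨fun a b => Subsingleton.elim _ _⟩⟩
      · haveI : IsCyclic (S : Subgroup G) := isCyclic_of_prime_card (p := 2) (by simpa using hk)
        letI := IsCyclic.commGroup (α := (S : Subgroup G))
        exact ⟨⟨mul_comm⟩⟩
      · exact ⟨⟨IsPGroup.commutative_of_card_eq_prime_sq hk⟩⟩
    rw [Ne, Subgroup.lowerCentralSeries_eq_bot_iff_nilpotencyClass_le, not_le] at hl
    have hclass : Group.nilpotencyClass (S : Subgroup G) = k - 1 :=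
      le_antisymm (CfsgLib.Transfer.class_le_pred k _ hk (by omega)) (by omega)
    have hK := (Cfsg.Agent.S0115.result k hk3 hk).1 hclass
    rcases Cfsg.Agent.S4399.result S.isPGroup' hK.card_four
      (fun x => by rw [pow_two]; exact @IsKleinFour.mul_self _ _ hK x) with h4 | ⟨j, ⟨e⟩⟩ | hSD | ⟨j, ⟨e⟩⟩
    · rw [hk] at h4
      have : 2 ^ 3 ≤ 2 ^ k := Nat.pow_le_pow_right two_pos hk3
      omega
    · obtain ⟨n, f, hn, -, hf, hfS⟩ := CfsgLib.TwoGroups.Dihedral.exists_model (S := S)
        (Nat.le_self_pow (by omega) 2) e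
      exact ⟨n, f, hn, hf, hfS⟩
    · -- semidihedral
      exfalso
      obtain ⟨j, hj, a, b, ha, hb, hab'⟩ := hSD
      have hQ : Cfsg.IsQuasiDihedral (S : Subgroup G) := ⟨j + 3, by omega, hj, a, b, ha, hb, hab'⟩
      obtain ⟨m, f, hf, hfS⟩ := CfsgLib.TwoGroups.SemiDihedral.exists_model hQ
      set z₁ := f (CfsgLib.TwoGroups.SemiDihedral.rot (CfsgLib.TwoGroups.SemiDihedral.h m)) with hz₁
      have hz1o : orderOf z₁ = 2 := by
        rw [hz₁, orderOf_injective f hf]
        exact (CfsgLib.TwoGroups.SemiDihedral.orderOf_eq_two_iff _).2 (Or.inl rfl)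
      have hz1S : z₁ ∈ (S : Subgroup G) := hfS ▸ ⟨_, rfl⟩
      have hodd := odd_eq_one hP (v₀ := v) hz1o hz1S
        (fun s hs => mem_centralizer_singleton_iff.1 (CfsgLib.TwoGroups.SemiDihedral.sylow_le_centralizer_h hfS hs))
        (card_omega f hf hfS hz1S hz1o (card_semiDihedral_involutions m))
      have hfus := CfsgLib.TwoGroups.SemiDihedral.fourFused_of_no_index_two hf hfS (no_index_two hP hna)
      have h6 := CfsgLib.TwoGroups.SemiDihedral.quat_six hf hfS hfus 0
      set Q := (CfsgLib.TwoGroups.SemiDihedral.eight (2 * (0 : ZMod (2 ^ (m + 3))) + 1)).map f with hQdef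
      have hN : normalizer (Q : Set G) ≤ centralizer ({z₁} : Set G) := by
        intro g hg
        have hzQ : z₁ ∈ Q := mem_map_of_mem f (CfsgLib.TwoGroups.SemiDihedral.rot_mem_lev.2 (by
          rw [pow_two, mul_assoc, CfsgLib.TwoGroups.SemiDihedral.two_mul_h, mul_zero]))
        obtain ⟨w, hw, hwz⟩ := mem_map.1 ((mem_normalizer_iff.1 hg z₁).1 hzQ)
        have hw2 : orderOf w = 2 := by
          rw [← orderOf_injective f hf, hwz]
          exact (orderOf_injective (MulAut.conj g).toMonoidHom (MulAut.conj g).injective z₁).trans hz1o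
        rcases (CfsgLib.TwoGroups.SemiDihedral.orderOf_eq_two_iff w).1 hw2 with rfl | ⟨c, rfl⟩
        · refine mem_centralizer_singleton_iff.2 ?_
          rw [← hz₁, eq_mul_inv_iff_mul_eq] at hwz
          exact hwz.symm
        · exfalso
          have h1 := CfsgLib.TwoGroups.SemiDihedral.ref_mem_lev.1 hw
          obtain ⟨d, hd⟩ := CfsgLib.TwoGroups.SemiDihedral.even_h (m := m)
          have h4 : (CfsgLib.TwoGroups.SemiDihedral.h m) = (2 : ZMod (2 ^ (m + 3))) ^ (m + 2) := by
            show ((2 ^ (m + 3 - 1) : ℕ) : ZMod (2 ^ (m + 3))) = _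
            push_cast; rfl
          refine CfsgLib.TwoGroups.SemiDihedral.h_ne (m := m) ?_
          have h5 : CfsgLib.TwoGroups.SemiDihedral.h m * (2 * c - (2 * 0 + 1)) = 0 := by
            rw [h4]
            linear_combination ((2 : ZMod (2 ^ (m + 3))) ^ m) * h1
          linear_combination -h5 + c * (CfsgLib.TwoGroups.SemiDihedral.two_mul_h (m := m))
      have hp2 : IsPGroup 2 (normalizer (Q : Set G)) := by
        intro g
        obtain ⟨a, b, hb, hab⟩ := Nat.exists_eq_two_pow_mul_odd (orderOf_pos (g : G)).ne'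
        refine ⟨a, Subtype.ext ?_⟩
        show (g : G) ^ 2 ^ a = 1
        refine hodd _ ((show Commute (g : G) z₁ from mem_centralizer_singleton_iff.1 (hN g.2)).pow_left _).eq ?_
        rw [orderOf_pow_of_dvd (Nat.two_pow_pos a).ne' (hab ▸ dvd_mul_right _ _), hab,
          Nat.mul_div_cancel_left _ (Nat.two_pow_pos a)]
        exact hb
      obtain ⟨i, hi⟩ := IsPGroup.iff_card.1 hp2
      have h3 : 6 ∣ 2 ^ i := hi ▸ h6 ▸ Subgroup.relIndex_dvd_card _ _
      exact absurd (Nat.prime_three.dvd_of_dvd_pow ((show 3 ∣ 6 by norm_num).trans h3)) (by norm_num)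
    · exfalso
      haveI : NeZero (2 ^ (j + 1)) := ⟨pow_ne_zero _ two_ne_zero⟩
      have key : ∀ x : QuaternionGroup (2 ^ (j + 1)), x * x = 1 → x ≠ 1 → x = QuaternionGroup.a ((2 ^ (j + 1) : ℕ) : ZMod (2 * 2 ^ (j + 1))) := by
        intro x hx hx1
        rcases x with i | i
        · rw [QuaternionGroup.a_mul_a, QuaternionGroup.one_def, QuaternionGroup.a.injEq, ← two_mul] at hx
          have h0 : ((2 * i.val : ℕ) : ZMod (2 * 2 ^ (j + 1))) = 0 := by
            push_cast; rw [ZMod.natCast_zmod_val, hx]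
          rw [ZMod.natCast_eq_zero_iff] at h0
          obtain ⟨q, hq⟩ := (Nat.mul_dvd_mul_iff_left two_pos).1 h0
          have hlt := i.val_lt
          have hne : i.val ≠ 0 := fun e => hx1 (by
            rw [(ZMod.val_eq_zero i).1 e]; rfl)
          have hq1 : q = 1 := by
            rcases q with _ | _ | q
            · exact absurd (hq.trans (mul_zero _)) hne
            · rfl
            · have : 2 ^ (j + 1) * 2 ≤ 2 ^ (j + 1) * (q + 1 + 1) := Nat.mul_le_mul_left _ (by omega)
              omega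
          rw [hq1, mul_one] at hq
          rw [← ZMod.natCast_zmod_val i, hq]
        · rw [QuaternionGroup.xa_mul_xa, QuaternionGroup.one_def, QuaternionGroup.a.injEq, add_sub_cancel_right,
            ZMod.natCast_eq_zero_iff] at hx
          have := Nat.le_of_dvd (Nat.two_pow_pos _) hx
          have := Nat.two_pow_pos (j + 1)
          omega
      have hne : ∀ {w : G} (hw : w ∈ (S : Subgroup G)), orderOf w = 2 → e ⟨w, hw⟩ ≠ 1 := fun hw h2 he => by
        have := congrArg Subtype.val (e.injective (he.trans (map_one e).symm))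
        simp only [OneMemClass.coe_one] at this
        rw [this, orderOf_one] at h2; omega
      have h1 := key (e ⟨v, hvS⟩) (by rw [← map_mul, show (⟨v, hvS⟩ : (S : Subgroup G)) * ⟨v, hvS⟩ = 1 from Subtype.ext hv2, map_one]) (hne hvS hv)
      have h2 := key (e ⟨z, hzS⟩) (by rw [← map_mul, show (⟨z, hzS⟩ : (S : Subgroup G)) * ⟨z, hzS⟩ = 1 from Subtype.ext hz2, map_one]) (hne hzS hz)
      exact hvz (congrArg Subtype.val (e.injective (h1.trans h2.symm)))

/-- `G` is a `PSL(2, F)` in which the centralisers of involutions are 2-groups. -/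
theorem exists_psl : ∃ (F : Type) (_ : Field F) (_ : Fintype F), Odd (Fintype.card F) ∧
    5 ≤ Fintype.card F ∧ Nonempty (G ≃* Matrix.ProjectiveSpecialLinearGroup (Fin 2) F) ∧
    ∀ z x : G, orderOf z = 2 → x * z = z * x → Odd (orderOf x) → x = 1 := by
  classical
  haveI : Fact (Nat.Prime 2) := ⟨Nat.prime_two⟩
  obtain ⟨S⟩ : Nonempty (Sylow 2 G) := inferInstance
  obtain ⟨n, f, hn, hf, hfS⟩ := sylow_dihedral hP hna S
  set t := f (DihedralGroup.r (CfsgLib.TwoGroups.half n)) with htdef
  have ht : orderOf t = 2 := CfsgLib.TwoGroups.Dihedral.orderOf_half hf hn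
  have htS : t ∈ (S : Subgroup G) := hfS ▸ ⟨_, rfl⟩
  have htc : ∀ s ∈ (S : Subgroup G), s * t = t * s := by
    rw [← hfS]
    rintro _ ⟨u, rfl⟩
    rw [htdef, ← map_mul, ← map_mul]
    congr 1
    rcases u with i | i
    · rw [DihedralGroup.r_mul_r, DihedralGroup.r_mul_r, add_comm]
    · rw [DihedralGroup.sr_mul_r, DihedralGroup.r_mul_sr, sub_eq_add_neg, CfsgLib.TwoGroups.neg_half hn]
  have hodd := odd_eq_one hP (v₀ := t) ht htS htc
    (card_omega f hf hfS htS ht (card_dihedral_involutions hn))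
  have hO : Cfsg.oddCore (centralizer ({t} : Set G)) = ⊥ := by
    rw [eq_bot_iff_forall]
    intro x hx
    refine Subtype.ext (hodd _ (mem_centralizer_singleton_iff.1 x.2) ?_)
    rw [orderOf_coe]
    refine Odd.of_dvd_nat ?_ ((Cfsg.oddCore _).orderOf_dvd_natCard hx)
    exact CfsgLib.ZStar.odd_card_oddCore _
  have eS : (S : Subgroup G) ≃* DihedralGroup (2 ^ n) :=
    ((MonoidHom.ofInjective hf).trans (MulEquiv.subgroupCongr hfS)).symm
  have hall := CfsgLib.TwoGroups.Dihedral.all_conj_of_no_index_two hf hfS hn (no_index_two hP hna)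
  obtain ⟨F, iF, iFt, hF, ⟨e⟩⟩ := Cfsg.Agent.S0508.result S (2 ^ n) (Nat.le_self_pow (by omega) 2) ⟨eS⟩ t ht
    htS htc ⊥ (by rw [hO, Subgroup.map_bot]) (fun h => absurd rfl h)
    (fun s _ hs => absurd (mem_centralizer_iff.2 fun y hy => by
      rw [SetLike.mem_coe, mem_bot] at hy
      rw [hy, one_mul, mul_one]) hs)
    (fun Y hY hY1 => absurd (le_bot_iff.1 hY) hY1)
  refine ⟨F, iF, iFt, hF, ?_, ⟨e⟩, fun z x hz hxz hx => ?_⟩
  · by_contra hlt
    have h1 : 1 < Fintype.card F := Fintype.one_lt_card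
    have hq : Fintype.card F = 3 := by obtain ⟨j, hj⟩ := hF; omega
    have hc := CfsgLib.Classical.Dickson.gcd_mul_card_psl (F := F) hq
    norm_num at hc
    exact CfsgLib.PGroups.BSW.card_ne_twelve (G := G) (by
      rw [Nat.card_congr e.toEquiv]
      rw [Nat.card_eq_fintype_card]
      omega)
  · obtain ⟨g, hg⟩ := isConj_iff.1 (hall z t hz ht)
    have hxo : orderOf (g * x * g⁻¹) = orderOf x :=
      orderOf_injective (MulAut.conj g).toMonoidHom (MulAut.conj g).injective x
    have := hodd (g * x * g⁻¹) (by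
      rw [← hg]
      calc g * x * g⁻¹ * (g * z * g⁻¹) = g * (x * z) * g⁻¹ := by group
        _ = g * (z * x) * g⁻¹ := by rw [hxz]
        _ = g * z * g⁻¹ * (g * x * g⁻¹) := by group) (hxo.symm ▸ hx)
    exact conj_eq_one_iff.1 this

end CfsgLib.PLocal.SelfCentNoncyclic
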